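import Groth.Agent.PiPts7.Probe

/-!
Probes of a quasi-compact open and admissibility of powers.
-/

open CategoryTheory AlgebraicGeometry Limits

universe u

namespace Groth.Agent.PiPts7

theorem pb_toSpecMap {W : Scheme.{u}} {R : CommRingCat.{u}} (φ : R ⟶ Γ(W, ⊤)) (r : R) :
    pb (W.toSpecΓ ≫ Spec.map φ) ((Scheme.ΓSpecIso R).inv r) = φ r := by
  have h : (Scheme.ΓSpecIso R).inv ≫ (W.toSpecΓ ≫ Spec.map φ).appTop = φ := by
    rw [Scheme.Hom.comp_appTop, Scheme.toSpecΓ_appTop, ← Category.assoc]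
    rw [← Scheme.ΓSpecIso_inv_naturality, Category.assoc, Iso.inv_hom_id, Category.comp_id]
  exact ConcreteCategory.congr_hom h r

theorem toSpec_pb {W V : Scheme.{u}} [IsAffine V] (ρ : W ⟶ V) :
    W.toSpecΓ ≫ Spec.map (CommRingCat.ofHom (pb ρ)) ≫ V.isoSpec.inv = ρ := by
  rw [ofHom_pb, ← Category.assoc, ← Scheme.toSpecΓ_naturality, Category.assoc, Scheme.toSpecΓ_isoSpec_inv,
    Category.comp_id]

theorem exists_mem_basicOpen_of_mem_sum {Y : Scheme.{u}} {H : Type*} (s : Finset H) (a : H → Γ(Y, ⊤))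
    (y : Y) (hy : y ∈ Y.basicOpen (∑ k ∈ s, a k)) : ∃ k ∈ s, y ∈ Y.basicOpen (a k) := by
  classical
  induction s using Finset.induction_on with
  | empty => simp at hy
  | insert k s hk ih =>
    rw [Finset.sum_insert hk] at hy
    rcases Y.basicOpen_add_le _ _ hy with h | h
    · exact ⟨k, Finset.mem_insert_self _ _, h⟩
    · obtain ⟨k', hk', h'⟩ := ih h
      exact ⟨k', Finset.mem_insert_of_mem hk', h'⟩

variable {X : Scheme.{u}} {U V : X.Opens}

section mk

variable {H : Type u} [Fintype H] (hV : IsAffineOpen V) (h : H → Γ(V.toScheme, ⊤))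

/-- the ring of the universal probe -/
noncomputable abbrev probeRing (V : X.Opens) (H : Type u) : CommRingCat.{u} :=
  CommRingCat.of (MvPolynomial H Γ(V.toScheme, ⊤))

/-- structure map of the universal probe -/
noncomputable def probeProj : Spec (probeRing V H) ⟶ V.toScheme :=
  haveI : IsAffine V.toScheme := hV
  Spec.map (CommRingCat.ofHom (MvPolynomial.C : Γ(V.toScheme, ⊤) →+* MvPolynomial H Γ(V.toScheme, ⊤))) ≫
    V.toScheme.isoSpec.inv

/-- the universal linear combination -/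
noncomputable def probeFun : Γ(Spec (probeRing V H), ⊤) :=
  ∑ k, (Scheme.ΓSpecIso (probeRing V H)).inv (MvPolynomial.X k) * pb (probeProj hV) (h k)

/-- the point of the universal probe with given coefficients -/
noncomputable def probePt {W : Scheme.{u}} (ρ : W ⟶ V.toScheme) (c : H → Γ(W, ⊤)) :
    W ⟶ Spec (probeRing V H) :=
  W.toSpecΓ ≫ Spec.map (CommRingCat.ofHom (MvPolynomial.eval₂Hom (pb ρ) c))

theorem probePt_proj {W : Scheme.{u}} (ρ : W ⟶ V.toScheme) (c : H → Γ(W, ⊤)) :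
    probePt ρ c ≫ probeProj (H := H) hV = ρ := by
  have : IsAffine V.toScheme := hV
  have e : (CommRingCat.ofHom (MvPolynomial.C : Γ(V.toScheme, ⊤) →+* MvPolynomial H Γ(V.toScheme, ⊤))) ≫
      CommRingCat.ofHom (MvPolynomial.eval₂Hom (pb ρ) c) = CommRingCat.ofHom (pb ρ) := by
    rw [← CommRingCat.ofHom_comp, MvPolynomial.eval₂Hom_comp_C]
  rw [probePt, probeProj, Category.assoc, ← Spec.map_comp_assoc, e]
  exact toSpec_pb ρ

theorem pb_probePt {W : Scheme.{u}} (ρ : W ⟶ V.toScheme) (c : H → Γ(W, ⊤)) :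
    pb (probePt ρ c) (probeFun hV h) = ∑ k, c k * pb ρ (h k) := by
  rw [probeFun, map_sum]
  refine Finset.sum_congr rfl fun k _ => ?_
  rw [map_mul, ← pb_comp, probePt_proj]
  congr 1
  rw [probePt, pb_toSpecMap]
  exact MvPolynomial.eval₂Hom_X' _ _ _

/-- the universal probe -/
noncomputable def mkProbe (hh : ∀ x : V.toScheme, ∀ k, x ∈ V.toScheme.basicOpen (h k) → V.ι x ∈ U) :
    Probe U where
  Y := Spec (probeRing V H)
  affine := inferInstance
  π := probeProj hV ≫ V.ι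
  τ := probeFun hV h
  le y hy := by
    obtain ⟨k, -, hk⟩ := exists_mem_basicOpen_of_mem_sum _ _ y hy
    rw [Scheme.basicOpen_mul] at hk
    refine hh _ k ?_
    have := hk.2
    rwa [show (Spec (probeRing V H)).basicOpen (pb (probeProj hV) (h k)) =
      probeProj hV ⁻¹ᵁ V.toScheme.basicOpen (h k) from (Scheme.preimage_basicOpen_top _ _).symm] at this
  scale {W} η u := by
    refine ⟨probePt (η ≫ probeProj hV)
      (fun k => u * pb η ((Scheme.ΓSpecIso (probeRing V H)).inv (MvPolynomial.X k))), ?_, ?_⟩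
    · rw [← Category.assoc, probePt_proj, Category.assoc]
    · rw [pb_probePt, probeFun, map_sum, Finset.mul_sum]
      refine Finset.sum_congr rfl fun k _ => ?_
      rw [map_mul, pb_comp, mul_assoc]

end mk

theorem exists_basicOpen_cover [QuasiSeparatedSpace X] (hV : IsAffineOpen V) (hU : IsCompact (U : Set X)) :
    ∃ (H : Type u) (_ : Fintype H) (h : H → Γ(V.toScheme, ⊤)),
      (∀ x : V.toScheme, ∀ k, x ∈ V.toScheme.basicOpen (h k) → V.ι x ∈ U) ∧
      ∀ x : V.toScheme, V.ι x ∈ U → ∃ k, x ∈ V.toScheme.basicOpen (h k) := by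
  classical
  have : IsAffine V.toScheme := hV
  have : QuasiCompact V.ι := QuasiCompact.of_comp V.ι (terminal.from X)
  have hc : IsCompact ((V.ι ⁻¹ᵁ U : V.toScheme.Opens) : Set V.toScheme) :=
    V.ι.isCompact_preimage hU
  have hp : ∀ x : V.toScheme, V.ι x ∈ U → ∃ f : Γ(V.toScheme, ⊤),
      V.toScheme.basicOpen f ≤ V.ι ⁻¹ᵁ U ∧ x ∈ V.toScheme.basicOpen f := fun x hx =>
    (isAffineOpen_top V.toScheme).exists_basicOpen_le (⟨x, hx⟩ : (V.ι ⁻¹ᵁ U : V.toScheme.Opens)) trivial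
  choose f hf hxf using hp
  obtain ⟨s, hs⟩ := hc.elim_finite_subcover
    (fun x : {x : V.toScheme // V.ι x ∈ U} => ((V.toScheme.basicOpen (f x.1 x.2)) : Set V.toScheme))
    (fun x => (V.toScheme.basicOpen _).2) (fun x hx => Set.mem_iUnion.2 ⟨⟨x, hx⟩, hxf x hx⟩)
  refine ⟨s, inferInstance, fun x => f x.1.1 x.1.2, fun x k hk => hf k.1.1 k.1.2 hk, fun x hx => ?_⟩
  obtain ⟨y, hy, hxy⟩ := Set.mem_iUnion₂.1 (hs hx)
  exact ⟨⟨y, hy⟩, hxy⟩

/-- there is a finite family of probes for which high powers are admissible -/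
theorem exists_probes [CompactSpace X] [QuasiSeparatedSpace X] (U : X.Opens) (hU : IsCompact (U : Set X)) :
    ∃ (α : Type u) (_ : Finite α) (pr : α → Probe U), ∀ (T : Scheme.{u}) [IsAffine T] (g : T ⟶ X)
      (t : Γ(T, ⊤)), T.basicOpen t ≤ g ⁻¹ᵁ U → ∃ N : ℕ, ∀ n, N ≤ n → Adm pr g (t ^ n) := by
  classical
  have hcov : ∀ x : X, ∃ V : X.Opens, IsAffineOpen V ∧ x ∈ V := fun x => by
    obtain ⟨V, hV, hx, -⟩ := exists_isAffineOpen_mem_and_subset (x := x) (U := ⊤) trivial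
    exact ⟨V, hV, hx⟩
  choose V hV hxV using hcov
  obtain ⟨L, hL⟩ := isCompact_univ.elim_finite_subcover (fun x : X => (V x : Set X)) (fun x => (V x).2)
    (fun x _ => Set.mem_iUnion.2 ⟨x, hxV x⟩)
  choose H hH h hh hh' using fun l : L => exists_basicOpen_cover (U := U) (hV l.1) hU
  refine ⟨L, inferInstance, fun l => mkProbe (hV l.1) (h l) (hh l), fun T _ g t ht => ?_⟩
  have hloc : ∀ x : T, ∃ (l : L) (O : T.Opens) (N : ℕ), x ∈ O ∧
      ∃ κ : O.toScheme ⟶ (mkProbe (hV l.1) (h l) (hh l)).Y,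
      κ ≫ (mkProbe (hV l.1) (h l) (hh l)).π = O.ι ≫ g ∧
      pb κ (mkProbe (hV l.1) (h l) (hh l)).τ = pb O.ι t ^ N := by
    intro x
    obtain ⟨y, hy, hxy⟩ := Set.mem_iUnion₂.1 (hL (Set.mem_univ (g x)))
    obtain ⟨O, hO, hxO, hOV⟩ := exists_isAffineOpen_mem_and_subset (x := x) (U := g ⁻¹ᵁ V y) hxy
    have : IsAffine O.toScheme := hO
    set ρ : O.toScheme ⟶ (V y).toScheme := g.resLE (V y) O hOV
    have hρ : ρ ≫ (V y).ι = O.ι ≫ g := Scheme.Hom.resLE_comp_ι _ _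
    have hrad : pb O.ι t ∈ (Ideal.span (Set.range fun k => pb ρ (h ⟨y, hy⟩ k))).radical := by
      rw [Ideal.radical_eq_sInf, Submodule.mem_sInf]
      rintro p ⟨hp, hprime⟩
      by_contra hnot
      obtain ⟨z, hz⟩ : ∃ z : O.toScheme, O.toScheme.isoSpec.hom z = (⟨p, hprime⟩ : PrimeSpectrum _) :=
        O.toScheme.isoSpec.hom.homeomorph.surjective _
      have hz1 : z ∈ O.toScheme.basicOpen (pb O.ι t) := by
        rw [mem_basicOpen_iff, hz]; exact hnot
      rw [show O.toScheme.basicOpen (pb O.ι t) = O.ι ⁻¹ᵁ T.basicOpen t from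
        (Scheme.preimage_basicOpen_top _ _).symm] at hz1
      have hz2 : (V y).ι (ρ z) ∈ U := by
        rw [← Scheme.Hom.comp_apply, hρ]
        exact ht hz1
      obtain ⟨k, hk⟩ := hh' ⟨y, hy⟩ _ hz2
      have hz3 : z ∈ O.toScheme.basicOpen (pb ρ (h ⟨y, hy⟩ k)) := by
        rw [show O.toScheme.basicOpen (pb ρ (h ⟨y, hy⟩ k)) = ρ ⁻¹ᵁ _ from
          (Scheme.preimage_basicOpen_top _ _).symm]
        exact hk
      rw [mem_basicOpen_iff, hz] at hz3
      exact hz3 (hp (Ideal.subset_span ⟨k, rfl⟩))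
    obtain ⟨N, hN⟩ := hrad
    obtain ⟨c, hc⟩ := Ideal.mem_span_range_iff_exists_fun.1 hN
    refine ⟨⟨y, hy⟩, O, N, hxO, probePt ρ c, ?_, ?_⟩
    · change probePt ρ c ≫ probeProj (hV y) ≫ (V y).ι = O.ι ≫ g
      rw [← Category.assoc, probePt_proj, hρ]
    · exact (pb_probePt _ _ _ _).trans hc
  choose l O N hxO κ hκ hκt using hloc
  obtain ⟨S, hS⟩ := isCompact_univ.elim_finite_subcover (fun x : T => (O x : Set T)) (fun x => (O x).2)
    (fun x _ => Set.mem_iUnion.2 ⟨x, hxO x⟩)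
  refine ⟨∑ x ∈ S, N x, fun n hn x => ?_⟩
  obtain ⟨y, hy, hxy⟩ := Set.mem_iUnion₂.1 (hS (Set.mem_univ x))
  have hle : N y ≤ n := (Finset.single_le_sum (fun i _ => Nat.zero_le (N i)) hy).trans hn
  obtain ⟨κ', h1, h2⟩ := (mkProbe (hV (l y).1) (h (l y)) (hh (l y))).scale (κ y) (pb (O y).ι t ^ (n - N y))
  exact ⟨l y, O y, hxy, κ', h1.trans (hκ y), by rw [h2, hκt, map_pow, ← pow_add, Nat.sub_add_cancel hle]⟩

end Groth.Agent.PiPts7
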