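import Groth.Agent.PiPts7.Value
import Groth.Agent.PiPts7.Chart

/-!
Points of a quasi-compact quasi-separated scheme with values in a product of rings.
-/

open CategoryTheory AlgebraicGeometry Limits

universe u

namespace Groth.Agent.PiPts7

theorem exists_pow_eq_sum {T : Scheme.{u}} [IsAffine T] {K : Type u} [Fintype K] (O : K → T.Opens)
    (t : Γ(T, ⊤)) (ht : ∀ x ∈ T.basicOpen t, ∃ k, x ∈ O k) :
    ∃ (N : ℕ) (v : K → Γ(T, ⊤)), (∀ k, T.basicOpen (v k) ≤ O k) ∧ t ^ N = ∑ k, v k := by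
  classical
  let I : K → Ideal Γ(T, ⊤) := fun k =>
    { carrier := {a | T.basicOpen a ≤ O k}
      zero_mem' := by simp
      add_mem' := fun ha hb => (T.basicOpen_add_le _ _).trans (sup_le ha hb)
      smul_mem' := fun c a ha => by
        simp only [smul_eq_mul, Set.mem_ofPred_eq, Scheme.basicOpen_mul]
        exact inf_le_right.trans ha }
  have hrad : t ∈ (⨆ k, I k).radical := by
    rw [Ideal.radical_eq_sInf, Submodule.mem_sInf]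
    rintro p ⟨hp, hprime⟩
    by_contra hnot
    obtain ⟨z, hz⟩ : ∃ z : T, T.isoSpec.hom z = (⟨p, hprime⟩ : PrimeSpectrum _) :=
      T.isoSpec.hom.homeomorph.surjective _
    have hz1 : z ∈ T.basicOpen t := by
      rw [mem_basicOpen_iff, hz]; exact hnot
    obtain ⟨k, hk⟩ := ht z hz1
    obtain ⟨a, ha, hza⟩ := (isAffineOpen_top T).exists_basicOpen_le (⟨z, hk⟩ : O k) trivial
    rw [mem_basicOpen_iff, hz] at hza
    exact hza (hp (Submodule.mem_iSup_of_mem k ha))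
  obtain ⟨N, hN⟩ := hrad
  obtain ⟨v, hv, hsum⟩ := (Submodule.mem_iSup_iff_exists_finsupp I _).1 hN
  refine ⟨N, fun k => v k, fun k => hv k, ?_⟩
  rw [← hsum, Finsupp.sum_fintype _ _ (fun _ => rfl)]

theorem toSpec_comp_assoc {W V V' Z : Scheme.{u}} [IsAffine V] [IsAffine V'] (j : V' ⟶ V)
    (φ : Γ(V', ⊤) →+* Γ(W, ⊤)) (h : V ⟶ Z) :
    W.toSpecΓ ≫ Spec.map (CommRingCat.ofHom (φ.comp (pb j))) ≫ V.isoSpec.inv ≫ h =
      W.toSpecΓ ≫ Spec.map (CommRingCat.ofHom φ) ≫ V'.isoSpec.inv ≫ j ≫ h := by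
  rw [CommRingCat.ofHom_comp, ofHom_pb, Spec.map_comp_assoc, Scheme.isoSpec_inv_naturality_assoc]

variable {X : Scheme.{u}} [QuasiSeparatedSpace X] {I : Type u} {T : I → Scheme.{u}} {g : ∀ i, T i ⟶ X}

/-- the morphism to `U ⊆ X` given by an admissible element invertible on `W` -/
noncomputable def mor {U : X.Opens} (hU : IsAffineOpen U) {α : Type u} [Finite α] {pr : α → Probe U}
    {f : ∀ i, Γ(T i, ⊤)} (hf : ∀ i, Adm pr (g i) (f i)) {W : Scheme.{u}}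
    (σ : (∀ i, Γ(T i, ⊤)) →+* Γ(W, ⊤)) (hu : IsUnit (σ f)) : W ⟶ X :=
  haveI : IsAffine U.toScheme := hU
  W.toSpecΓ ≫ Spec.map (CommRingCat.ofHom (valueHom hf hu)) ≫ U.toScheme.isoSpec.inv ≫ U.ι

section

variable {U : X.Opens} (hU : IsAffineOpen U) {α : Type u} [Finite α] {pr : α → Probe U}
  {f : ∀ i, Γ(T i, ⊤)} (hf : ∀ i, Adm pr (g i) (f i))

theorem mor_congr {W : Scheme.{u}} {σ σ' : (∀ i, Γ(T i, ⊤)) →+* Γ(W, ⊤)} (h : σ = σ')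
    (hu : IsUnit (σ f)) (hu' : IsUnit (σ' f)) : mor hU hf σ hu = mor hU hf σ' hu' := by
  subst h; rfl

theorem comp_mor {W W' : Scheme.{u}} (j : W' ⟶ W) (σ : (∀ i, Γ(T i, ⊤)) →+* Γ(W, ⊤)) (hu : IsUnit (σ f)) :
    j ≫ mor hU hf σ hu = mor hU hf ((pb j).comp σ) (hu.map (pb j)) := by
  have e : CommRingCat.ofHom (valueHom hf hu) ≫ j.appTop =
      CommRingCat.ofHom (valueHom (σ := (pb j).comp σ) hf (hu.map (pb j))) := by
    rw [← ofHom_pb, ← CommRingCat.ofHom_comp, valueHom_comp (pb j) hf hu (hu.map (pb j))]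
  simp only [mor]
  rw [Scheme.toSpecΓ_naturality_assoc, ← Spec.map_comp_assoc, e]

theorem mor_eq_of_point (i : I) {W : Scheme.{u}} (e : W ⟶ T i) (ρ : W ⟶ U.toScheme)
    (he : ρ ≫ U.ι = e ≫ g i) (σ : (∀ i, Γ(T i, ⊤)) →+* Γ(W, ⊤)) (hσ : ∀ a, σ a = pb e (a i))
    (hu : IsUnit (σ f)) : mor hU hf σ hu = e ≫ g i := by
  have : IsAffine U.toScheme := hU
  rw [mor, valueHom_apply_point hf i e ρ he hσ hu, ← he]
  have := toSpec_pb ρ
  conv_rhs => rw [← this]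
  simp only [Category.assoc]

theorem mor_restrict {U' : X.Opens} (hU' : IsAffineOpen U') (h : U' ≤ U) {β : Type u} [Finite β]
    {pr' : β → Probe U'} {f' : ∀ i, Γ(T i, ⊤)} (hf' : ∀ i, Adm pr' (g i) (f' i)) {W : Scheme.{u}}
    (σ : (∀ i, Γ(T i, ⊤)) →+* Γ(W, ⊤)) (hu : IsUnit (σ f)) (hu' : IsUnit (σ f')) :
    mor hU hf σ hu = mor hU' hf' σ hu' := by
  have : IsAffine U.toScheme := hU
  have : IsAffine U'.toScheme := hU'
  have e : valueHom hf hu = (valueHom hf' hu').comp (pb (X.homOfLE h)) :=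
    RingHom.ext fun s => valueHom_restrict h hf hu hf' hu' s
  simp only [mor]
  rw [e]
  refine (toSpec_comp_assoc (X.homOfLE h) _ U.ι).trans ?_
  rw [Scheme.homOfLE_ι]

end

theorem pb_comp_hom {W W' Z : Scheme.{u}} {R : Type*} [CommRing R] (p : W ⟶ W') (q : W' ⟶ Z)
    (σ : R →+* Γ(Z, ⊤)) : (pb p).comp ((pb q).comp σ) = (pb (p ≫ q)).comp σ :=
  RingHom.ext fun a => (pb_comp p q (σ a)).symm

theorem mor_agree {U₁ U₂ : X.Opens} (hU₁ : IsAffineOpen U₁) (hU₂ : IsAffineOpen U₂)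
    {α₁ α₂ : Type u} [Finite α₁] [Finite α₂] {pr₁ : α₁ → Probe U₁} {pr₂ : α₂ → Probe U₂}
    {f₁ f₂ : ∀ i, Γ(T i, ⊤)} (hf₁ : ∀ i, Adm pr₁ (g i) (f₁ i)) (hf₂ : ∀ i, Adm pr₂ (g i) (f₂ i))
    {κ : Type u} [Fintype κ] (Uk : κ → X.Opens) (hUk : ∀ k, IsAffineOpen (Uk k))
    (h₁ : ∀ k, Uk k ≤ U₁) (h₂ : ∀ k, Uk k ≤ U₂) {β : κ → Type u} [∀ k, Finite (β k)]
    (prk : ∀ k, β k → Probe (Uk k)) (G : κ → ∀ i, Γ(T i, ⊤)) (hG : ∀ k i, Adm (prk k) (g i) (G k i))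
    (d : κ → ∀ i, Γ(T i, ⊤)) (hd : ∑ k, d k * G k = f₁ * f₂)
    {Z : Scheme.{u}} (σ : (∀ i, Γ(T i, ⊤)) →+* Γ(Z, ⊤)) (hu₁ : IsUnit (σ f₁)) (hu₂ : IsUnit (σ f₂)) :
    mor hU₁ hf₁ σ hu₁ = mor hU₂ hf₂ σ hu₂ := by
  refine Scheme.hom_ext_of_forall _ _ fun z => ?_
  have hz : z ∈ Z.basicOpen (∑ k, σ (d k) * σ (G k)) := by
    simp only [← map_mul, ← map_sum]
    rw [hd, map_mul, Scheme.basicOpen_of_isUnit _ (hu₁.mul hu₂)]
    trivial
  obtain ⟨k, -, hk⟩ := exists_mem_basicOpen_of_mem_sum _ _ z hz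
  rw [Scheme.basicOpen_mul] at hk
  refine ⟨_, hk.2, ?_⟩
  have hu₃ : IsUnit (((pb (Z.basicOpen (σ (G k))).ι).comp σ) (G k)) := isUnit_pb_basicOpen _
  rw [comp_mor, comp_mor, mor_restrict hU₁ _ (hUk k) (h₁ k) (hG k) _ _ hu₃,
    mor_restrict hU₂ _ (hUk k) (h₂ k) (hG k) _ _ hu₃]

theorem mor_agree_on_overlap {U₁ U₂ : X.Opens} (hU₁ : IsAffineOpen U₁)
    {α₁ : Type u} [Finite α₁] {pr₁ : α₁ → Probe U₁} {f₁ : ∀ i, Γ(T i, ⊤)}
    (hf₁ : ∀ i, Adm pr₁ (g i) (f₁ i)) (hU₂ : IsAffineOpen U₂)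
    {α₂ : Type u} [Finite α₂] {pr₂ : α₂ → Probe U₂} {f₂ : ∀ i, Γ(T i, ⊤)}
    (hf₂ : ∀ i, Adm pr₂ (g i) (f₂ i))
    {κ : Type u} [Fintype κ] (Uk : κ → X.Opens) (hUk : ∀ k, IsAffineOpen (Uk k))
    (h₁ : ∀ k, Uk k ≤ U₁) (h₂ : ∀ k, Uk k ≤ U₂) {β : κ → Type u} [∀ k, Finite (β k)]
    (prk : ∀ k, β k → Probe (Uk k)) (G : κ → ∀ i, Γ(T i, ⊤)) (hG : ∀ k i, Adm (prk k) (g i) (G k i))
    (d : κ → ∀ i, Γ(T i, ⊤)) (hd : ∑ k, d k * G k = f₁ * f₂)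
    {Z S : Scheme.{u}} {D₁ D₂ : S.Opens} (p₁ : Z ⟶ D₁.toScheme) (p₂ : Z ⟶ D₂.toScheme)
    (σ₀ : (∀ i, Γ(T i, ⊤)) →+* Γ(S, ⊤)) (hp : p₁ ≫ D₁.ι = p₂ ≫ D₂.ι)
    (hu₁ : IsUnit (((pb D₁.ι).comp σ₀) f₁)) (hu₂ : IsUnit (((pb D₂.ι).comp σ₀) f₂)) :
    p₁ ≫ mor hU₁ hf₁ _ hu₁ = p₂ ≫ mor hU₂ hf₂ _ hu₂ := by
  have v₁ : IsUnit (((pb (p₁ ≫ D₁.ι)).comp σ₀) f₁) := by
    rw [← pb_comp_hom]; exact hu₁.map (pb p₁)
  have v₂ : IsUnit (((pb (p₁ ≫ D₁.ι)).comp σ₀) f₂) := by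
    rw [hp, ← pb_comp_hom]; exact hu₂.map (pb p₂)
  rw [comp_mor, comp_mor, mor_congr hU₁ hf₁ (pb_comp_hom _ _ _) _ v₁,
    mor_congr hU₂ hf₂ ((pb_comp_hom _ _ _).trans (by rw [hp])) _ v₂]
  exact mor_agree hU₁ hU₂ hf₁ hf₂ Uk hUk h₁ h₂ prk G hG d hd _ v₁ v₂

/-- the map from `T i` to the spectrum of the product of the rings of global sections -/
noncomputable def toPi (T : I → Scheme.{u}) (i : I) : T i ⟶ Spec (CommRingCat.of (∀ i, Γ(T i, ⊤))) :=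
  (T i).toSpecΓ ≫ Spec.map (CommRingCat.ofHom (Pi.evalRingHom (fun i => (Γ(T i, ⊤) : Type u)) i))

theorem exists_morphism [CompactSpace X] [∀ i, IsAffine (T i)] (g : ∀ i, T i ⟶ X) :
    ∃ M : Spec (CommRingCat.of (∀ i, Γ(T i, ⊤))) ⟶ X, ∀ i, toPi T i ≫ M = g i := by
  classical
  -- covers
  have hcov : ∀ x : X, ∃ V : X.Opens, IsAffineOpen V ∧ x ∈ V := fun x => by
    obtain ⟨V, hV, hx, -⟩ := exists_isAffineOpen_mem_and_subset (x := x) (U := ⊤) trivial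
    exact ⟨V, hV, hx⟩
  choose V hV hxV using hcov
  obtain ⟨L, hL⟩ := isCompact_univ.elim_finite_subcover (fun x : X => (V x : Set X)) (fun x => (V x).2)
    (fun x _ => Set.mem_iUnion.2 ⟨x, hxV x⟩)
  have hpair : ∀ p : L × L, ∃ (K : Finset X) (W : X → X.Opens), (∀ x ∈ K, IsAffineOpen (W x) ∧ W x ≤ V p.1 ⊓ V p.2) ∧
      ∀ x ∈ V p.1 ⊓ V p.2, ∃ y ∈ K, x ∈ W y := by
    intro p
    have hc : IsCompact ((V p.1 : Set X) ∩ V p.2) :=
      QuasiSeparatedSpace.inter_isCompact _ _ (V p.1).2 (hV _).isCompact (V p.2).2 (hV _).isCompact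
    have hW : ∀ x : X, ∃ W : X.Opens, x ∈ V p.1 ⊓ V p.2 → IsAffineOpen W ∧ W ≤ V p.1 ⊓ V p.2 ∧ x ∈ W := by
      intro x
      by_cases hx : x ∈ V p.1 ⊓ V p.2
      · obtain ⟨W, h1, h2, h3⟩ := exists_isAffineOpen_mem_and_subset (x := x) (U := V p.1 ⊓ V p.2) hx
        exact ⟨W, fun _ => ⟨h1, h3, h2⟩⟩
      · exact ⟨⊥, fun h => absurd h hx⟩
    choose W hW using hW
    obtain ⟨K, hK⟩ := hc.elim_finite_subcover
      (fun x : {x : X // x ∈ V p.1 ⊓ V p.2} => (W x.1 : Set X)) (fun x => (W x.1).2)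
      (fun x hx => Set.mem_iUnion.2 ⟨⟨x, hx⟩, (hW x hx).2.2⟩)
    refine ⟨K.image Subtype.val, W, fun x hx => ?_, fun x hx => ?_⟩
    · obtain ⟨y, -, rfl⟩ := Finset.mem_image.1 hx
      exact ⟨(hW y y.2).1, (hW y y.2).2.1⟩
    · obtain ⟨y, hy, hxy⟩ := Set.mem_iUnion₂.1 (hK hx)
      exact ⟨y, Finset.mem_image_of_mem _ hy, hxy⟩
  choose K W hW hWc using hpair
  -- probes
  choose α hα pr hpr using fun x : L => exists_probes (V x.1) (hV x.1).isCompact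
  choose β hβ pr' hpr' using fun q : Σ p : L × L, K p =>
    exists_probes (W q.1 q.2.1) (hW q.1 q.2.1 q.2.2).1.isCompact
  -- the elements
  have helts : ∀ i, ∃ (f : L → Γ(T i, ⊤)) (v : (Σ p : L × L, K p) → Γ(T i, ⊤)),
      (∀ j, Adm (pr j) (g i) (f j) ∧ (T i).basicOpen (f j) ≤ g i ⁻¹ᵁ V j.1) ∧
      (∀ q, Adm (pr' q) (g i) (v q)) ∧ (∃ c : L → Γ(T i, ⊤), ∑ j, c j * f j = 1) ∧
      ∀ p : L × L, ∃ d : K p → Γ(T i, ⊤), ∑ k, d k * v ⟨p, k⟩ = f p.1 * f p.2 := by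
    intro i
    obtain ⟨N, u₀, hu₀, hsum⟩ := exists_pow_eq_sum (fun j : L => g i ⁻¹ᵁ V j.1) (1 : Γ(T i, ⊤))
      (fun x _ => by
        obtain ⟨y, hy, hxy⟩ := Set.mem_iUnion₂.1 (hL (Set.mem_univ (g i x)))
        exact ⟨⟨y, hy⟩, hxy⟩)
    have hp : ∀ p : L × L, ∃ (N : ℕ) (v : K p → Γ(T i, ⊤)),
        (∀ k, (T i).basicOpen (v k) ≤ g i ⁻¹ᵁ W p k.1) ∧ (u₀ p.1 * u₀ p.2) ^ N = ∑ k, v k := by
      intro p
      refine exists_pow_eq_sum (fun k : K p => g i ⁻¹ᵁ W p k.1) _ (fun x hx => ?_)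
      rw [Scheme.basicOpen_mul] at hx
      obtain ⟨y, hy, hxy⟩ := hWc p (g i x) ⟨hu₀ p.1 hx.1, hu₀ p.2 hx.2⟩
      exact ⟨⟨y, hy⟩, hxy⟩
    choose Np v hv hvsum using hp
    choose R hR using fun q : Σ p : L × L, K p => hpr' q (T i) (g i) (v q.1 q.2) (hv q.1 q.2)
    choose Nf hNf using fun j => hpr j (T i) (g i) (u₀ j) (hu₀ j)
    have hpow : ∀ p : L × L, ∃ e : ℕ, (u₀ p.1 * u₀ p.2) ^ e ∈
        Ideal.span (Set.range fun k : K p => v p k ^ R ⟨p, k⟩) := by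
      intro p
      have h1 : (u₀ p.1 * u₀ p.2) ^ Np p ∈
          (Ideal.span (Set.range fun k : K p => v p k ^ R ⟨p, k⟩)).radical := by
        rw [hvsum]
        exact sum_mem fun k _ => ⟨R ⟨p, k⟩, Ideal.subset_span ⟨k, rfl⟩⟩
      obtain ⟨n, hn⟩ := h1
      exact ⟨Np p * n, by rwa [pow_mul]⟩
    choose e he using hpow
    set E := ∑ p, e p + ∑ j, Nf j + 1
    refine ⟨fun j => u₀ j ^ E, fun q => v q.1 q.2 ^ R q, fun j => ⟨hNf j E ?_, ?_⟩, fun q => hR q _ le_rfl, ?_, ?_⟩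
    · have := Finset.single_le_sum (fun x _ => Nat.zero_le (Nf x)) (Finset.mem_univ j)
      omega
    · show (T i).basicOpen (u₀ j ^ E) ≤ _
      rw [show E = ∑ p, e p + ∑ j, Nf j + 1 from rfl, pow_succ, Scheme.basicOpen_mul]
      exact inf_le_right.trans (hu₀ j)
    · have h1 : Ideal.span (Set.range u₀) = ⊤ := by
        rw [Ideal.eq_top_iff_one, ← one_pow N, hsum]
        exact sum_mem fun j _ => Ideal.subset_span ⟨j, rfl⟩
      have h2 := Ideal.span_pow_eq_top _ h1 E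
      rw [← Set.range_comp, Ideal.eq_top_iff_one] at h2
      exact Ideal.mem_span_range_iff_exists_fun.1 h2
    · intro p
      apply Ideal.mem_span_range_iff_exists_fun.1
      show u₀ p.1 ^ E * u₀ p.2 ^ E ∈ _
      rw [← mul_pow]
      have := Finset.single_le_sum (fun x _ => Nat.zero_le (e x)) (Finset.mem_univ p)
      exact Ideal.pow_mem_of_pow_mem _ (he p) (this.trans ((Nat.le_add_right _ _).trans (Nat.le_succ _)))
  choose f v hf hv hc hd using helts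
  choose c hc using hc
  choose d hd using hd
  let F : L → (∀ i, Γ(T i, ⊤)) := fun j i => f i j
  let G : (Σ p : L × L, K p) → (∀ i, Γ(T i, ⊤)) := fun q i => v i q
  set P := CommRingCat.of (∀ i, Γ(T i, ⊤))
  let σ₀ : (∀ i, Γ(T i, ⊤)) →+* Γ(Spec P, ⊤) := (Scheme.ΓSpecIso P).inv.hom
  let D : L → (Spec P).Opens := fun j => (Spec P).basicOpen (σ₀ (F j))
  have hcover : ∀ x : Spec P, ∃ j, x ∈ D j := by
    intro x
    have hx : x ∈ (Spec P).basicOpen (∑ j, σ₀ (fun i => c i j) * σ₀ (F j)) := by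
      have h1 : (∑ j, (fun i => c i j) * F j : ∀ i, Γ(T i, ⊤)) = 1 := by
        funext i
        simp only [Finset.sum_apply, Pi.mul_apply, Pi.one_apply]
        exact hc i
      simp only [← map_mul, ← map_sum]
      rw [h1, map_one, Scheme.basicOpen_of_isUnit _ isUnit_one]
      trivial
    obtain ⟨j, -, hj⟩ := exists_mem_basicOpen_of_mem_sum _ _ x hx
    rw [Scheme.basicOpen_mul] at hj
    exact ⟨j, hj.2⟩
  have huD : ∀ j, IsUnit (((pb (D j).ι).comp σ₀) (F j)) := fun j => isUnit_pb_basicOpen _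
  let M₀ : ∀ j, (D j).toScheme ⟶ X := fun j => mor (hV j.1) (fun i => (hf i j).1) _ (huD j)
  let 𝒰 := (Spec P).openCoverOfIsOpenCover D (TopologicalSpace.IsOpenCover.mk
    (eq_top_iff.2 fun x _ => TopologicalSpace.Opens.mem_iSup.2 (hcover x)))
  have hM₀ : ∀ j l : L, pullback.fst (D j).ι (D l).ι ≫ M₀ j = pullback.snd (D j).ι (D l).ι ≫ M₀ l := by
    intro j l
    refine mor_agree_on_overlap (hV j.1) (fun i => (hf i j).1) (hV l.1) (fun i => (hf i l).1)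
      (fun k : K (j, l) => W (j, l) k.1) (fun k => (hW (j, l) k.1 k.2).1)
      (fun k => (hW (j, l) k.1 k.2).2.trans inf_le_left) (fun k => (hW (j, l) k.1 k.2).2.trans inf_le_right)
      (fun k => pr' ⟨(j, l), k⟩) (fun k => G ⟨(j, l), k⟩) (fun k i => hv i ⟨(j, l), k⟩)
      (fun k i => d i (j, l) k) ?_ _ _ σ₀ (pullback.condition) _ _
    funext i
    simp only [Finset.sum_apply, Pi.mul_apply]
    exact hd i (j, l)
  refine ⟨𝒰.glueMorphisms M₀ hM₀, fun i => Scheme.hom_ext_of_forall _ _ fun x => ?_⟩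
  have hσ : ∀ a : ∀ i, Γ(T i, ⊤), pb (toPi T i) (σ₀ a) = a i := fun a =>
    pb_toSpecMap (CommRingCat.ofHom (Pi.evalRingHom (fun i => (Γ(T i, ⊤) : Type u)) i)) a
  have hx : x ∈ (T i).basicOpen (∑ j, c i j * f i j) := by
    rw [hc i, Scheme.basicOpen_of_isUnit _ isUnit_one]; trivial
  obtain ⟨j, -, hj⟩ := exists_mem_basicOpen_of_mem_sum _ _ x hx
  rw [Scheme.basicOpen_mul] at hj
  refine ⟨_, hj.2, ?_⟩
  set O := (T i).basicOpen (f i j)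
  have hOD : O ≤ toPi T i ⁻¹ᵁ D j := by
    rw [show toPi T i ⁻¹ᵁ D j = (T i).basicOpen (pb (toPi T i) (σ₀ (F j))) from
      Scheme.preimage_basicOpen_top _ _, hσ]
  let ε : O.toScheme ⟶ (D j).toScheme := (toPi T i).resLE (D j) O hOD
  let ρ : O.toScheme ⟶ (V j.1).toScheme := (g i).resLE (V j.1) O (hf i j).2
  have hε : ε ≫ (D j).ι = O.ι ≫ toPi T i := Scheme.Hom.resLE_comp_ι _ _
  have hρ : ρ ≫ (V j.1).ι = O.ι ≫ g i := Scheme.Hom.resLE_comp_ι _ _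
  rw [← Category.assoc, ← hε, Category.assoc]
  refine (congrArg (ε ≫ ·) (𝒰.ι_glueMorphisms M₀ hM₀ j)).trans ?_
  simp only [M₀]
  rw [comp_mor]
  refine mor_eq_of_point _ _ i O.ι ρ hρ _ (fun a => ?_) _
  rw [RingHom.comp_apply, RingHom.comp_apply, ← pb_comp, hε, pb_comp, hσ]

end Groth.Agent.PiPts7
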