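import Groth.Agent.PiPts7.Sections

/-!
Uniformly bounded denominators: sections of an open `U` of `X` along points of products of rings.
-/

open CategoryTheory AlgebraicGeometry Limits

universe u

namespace Groth.Agent.PiPts7

variable {X : Scheme.{u}}

/-- an affine scheme over `X` with a function whose non-vanishing locus lies over `U` -/
structure Probe (U : X.Opens) where
  Y : Scheme.{u}
  affine : IsAffine Y
  π : Y ⟶ X
  τ : Γ(Y, ⊤)
  le : ∀ y, y ∈ Y.basicOpen τ → π y ∈ U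
  scale : ∀ {W : Scheme.{u}} (η : W ⟶ Y) (u : Γ(W, ⊤)), ∃ η', η' ≫ π = η ≫ π ∧ pb η' τ = u * pb η τ

attribute [instance] Probe.affine

variable {U U' : X.Opens} {α β : Type u} [Finite α] [Finite β]

/-- locally a pull back of the function of one of the probes -/
def Adm (pr : α → Probe U) {T : Scheme.{u}} (g : T ⟶ X) (t : Γ(T, ⊤)) : Prop :=
  ∀ x : T, ∃ (l : α) (V : T.Opens), x ∈ V ∧ ∃ κ : V.toScheme ⟶ (pr l).Y,
    κ ≫ (pr l).π = V.ι ≫ g ∧ pb κ (pr l).τ = pb V.ι t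

omit [Finite α] in
theorem Adm.mul {pr : α → Probe U} {T : Scheme.{u}} {g : T ⟶ X} {t : Γ(T, ⊤)} (h : Adm pr g t)
    (u : Γ(T, ⊤)) : Adm pr g (u * t) := by
  intro x
  obtain ⟨l, V, hx, κ, h1, h2⟩ := h x
  obtain ⟨κ', h1', h2'⟩ := (pr l).scale κ (pb V.ι u)
  exact ⟨l, V, hx, κ', h1'.trans h1, by rw [h2', h2, map_mul]⟩

/-- `b` is `s` times the `m`-th power of the function of the probe -/
def Extends (p : Probe U) (b : Γ(p.Y, ⊤)) (m : ℕ) (s : Γ(U.toScheme, ⊤)) : Prop :=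
  ∀ (W : Scheme.{u}) (η : W ⟶ p.Y) (ρ : W ⟶ U.toScheme), η ≫ p.π = ρ ≫ U.ι → IsUnit (pb η p.τ) →
    pb η b = pb ρ s * pb η p.τ ^ m

theorem Extends.raise {p : Probe U} {b : Γ(p.Y, ⊤)} {m : ℕ} {s : Γ(U.toScheme, ⊤)}
    (h : Extends p b m s) (d : ℕ) : Extends p (b * p.τ ^ d) (m + d) s := by
  intro W η ρ e hu
  rw [map_mul, map_pow, h W η ρ e hu, pow_add, mul_assoc]

theorem exists_extends (p : Probe U) (s : Γ(U.toScheme, ⊤)) : ∃ (m : ℕ) (b : Γ(p.Y, ⊤)), Extends p b m s := by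
  have hr : Set.range ((p.Y.basicOpen p.τ).ι ≫ p.π) ⊆ Set.range U.ι := by
    rintro _ ⟨y, rfl⟩
    rw [Scheme.Opens.range_ι]
    exact p.le _ y.2
  let ρ₀ := IsOpenImmersion.lift U.ι ((p.Y.basicOpen p.τ).ι ≫ p.π) hr
  obtain ⟨n, y, hy⟩ := exists_eq_pow_mul p.τ (pb ρ₀ s)
  refine ⟨n, y, fun W η ρ e hu => ?_⟩
  have hη : Set.range η ⊆ Set.range (p.Y.basicOpen p.τ).ι := by
    rintro _ ⟨w, rfl⟩
    rw [Scheme.Opens.range_ι]
    exact mem_basicOpen_of_isUnit η p.τ hu w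
  let η' := IsOpenImmersion.lift (p.Y.basicOpen p.τ).ι η hη
  have hη' : η' ≫ (p.Y.basicOpen p.τ).ι = η := IsOpenImmersion.lift_fac _ _ _
  have hρ : η' ≫ ρ₀ = ρ := by
    rw [← cancel_mono U.ι, Category.assoc, IsOpenImmersion.lift_fac, ← Category.assoc, hη', e]
  have := congrArg (pb η') hy
  rw [map_mul, map_pow, ← pb_comp, ← pb_comp, ← pb_comp, hη', hρ] at this
  rw [this, mul_comm]

theorem exists_extends_family (pr : α → Probe U) (s : Γ(U.toScheme, ⊤)) :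
    ∃ (m : ℕ) (b : ∀ l, Γ((pr l).Y, ⊤)), ∀ l, Extends (pr l) (b l) m s := by
  cases nonempty_fintype α
  choose m b hb using fun l => exists_extends (pr l) s
  refine ⟨∑ l, m l, fun l => b l * (pr l).τ ^ ((∑ l, m l) - m l), fun l => ?_⟩
  have h := (hb l).raise ((∑ l, m l) - m l)
  rwa [Nat.add_sub_cancel' (Finset.single_le_sum (fun i _ => Nat.zero_le (m i)) (Finset.mem_univ l))] at h

/-- two sections agree on the common domain -/
def Agree (s : Γ(U.toScheme, ⊤)) (s' : Γ(U'.toScheme, ⊤)) : Prop :=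
  ∀ (W : Scheme.{u}) (ρ : W ⟶ U.toScheme) (ρ' : W ⟶ U'.toScheme), ρ ≫ U.ι = ρ' ≫ U'.ι → pb ρ s = pb ρ' s'

theorem agree_refl (s : Γ(U.toScheme, ⊤)) : Agree s s := by
  intro W ρ ρ' e
  rw [(cancel_mono U.ι).1 e]

theorem exists_pow_pair [QuasiSeparatedSpace X] {pr : α → Probe U} {pr' : β → Probe U'}
    {s : Γ(U.toScheme, ⊤)} {s' : Γ(U'.toScheme, ⊤)} (hs : Agree s s') {m m' : ℕ}
    {b : ∀ l, Γ((pr l).Y, ⊤)} {b' : ∀ l, Γ((pr' l).Y, ⊤)}
    (hb : ∀ l, Extends (pr l) (b l) m s) (hb' : ∀ l, Extends (pr' l) (b' l) m' s') :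
    ∃ q : ℕ, ∀ (l : α) (l' : β) (W : Scheme.{u}) (η : W ⟶ (pr l).Y) (η' : W ⟶ (pr' l').Y),
      η ≫ (pr l).π = η' ≫ (pr' l').π →
      (pb η (pr l).τ * pb η' (pr' l').τ) ^ q *
        (pb η (b l) * pb η' (pr' l').τ ^ m' - pb η' (b' l') * pb η (pr l).τ ^ m) = 0 := by
  cases nonempty_fintype α
  cases nonempty_fintype β
  have key : ∀ l l', ∃ q : ℕ, ∀ (W : Scheme.{u}) (η : W ⟶ (pr l).Y) (η' : W ⟶ (pr' l').Y),
      η ≫ (pr l).π = η' ≫ (pr' l').π →
      (pb η (pr l).τ * pb η' (pr' l').τ) ^ q *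
        (pb η (b l) * pb η' (pr' l').τ ^ m' - pb η' (b' l') * pb η (pr l).τ ^ m) = 0 := by
    intro l l'
    have : QuasiCompact (pr l).π :=
      QuasiCompact.of_comp (pr l).π (terminal.from X)
    set Z := pullback (pr l).π (pr' l').π
    set p1 : Z ⟶ (pr l).Y := pullback.fst _ _
    set p2 : Z ⟶ (pr' l').Y := pullback.snd _ _
    set t := pb p1 (pr l).τ * pb p2 (pr' l').τ
    obtain ⟨q, hq⟩ := exists_pow_mul_eq_zero t
      (pb p1 (b l) * pb p2 (pr' l').τ ^ m' - pb p2 (b' l') * pb p1 (pr l).τ ^ m) (by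
        set ι := (Z.basicOpen t).ι
        have hu : IsUnit (pb ι t) := isUnit_pb_basicOpen t
        rw [map_mul, ← pb_comp, ← pb_comp] at hu
        have hu1 := isUnit_of_mul_isUnit_left hu
        have hu2 := isUnit_of_mul_isUnit_right hu
        have hr1 : Set.range ((ι ≫ p1) ≫ (pr l).π) ⊆ Set.range U.ι := by
          rintro _ ⟨z, rfl⟩
          rw [Scheme.Opens.range_ι]
          exact (pr l).le _ (mem_basicOpen_of_isUnit _ _ hu1 z)
        have hr2 : Set.range ((ι ≫ p2) ≫ (pr' l').π) ⊆ Set.range U'.ι := by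
          rintro _ ⟨z, rfl⟩
          rw [Scheme.Opens.range_ι]
          exact (pr' l').le _ (mem_basicOpen_of_isUnit _ _ hu2 z)
        have e1 := hb l _ (ι ≫ p1) (IsOpenImmersion.lift U.ι _ hr1) (IsOpenImmersion.lift_fac _ _ _).symm hu1
        have e2 := hb' l' _ (ι ≫ p2) (IsOpenImmersion.lift U'.ι _ hr2) (IsOpenImmersion.lift_fac _ _ _).symm hu2
        have e3 := hs _ (IsOpenImmersion.lift U.ι _ hr1) (IsOpenImmersion.lift U'.ι _ hr2) (by
          rw [IsOpenImmersion.lift_fac, IsOpenImmersion.lift_fac, Category.assoc, Category.assoc,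
            pullback.condition])
        simp only [map_sub, map_mul, map_pow, ← pb_comp]
        rw [e1, e2, e3]
        ring)
    refine ⟨q, fun W η η' e => ?_⟩
    have := congrArg (pb (pullback.lift η η' e)) hq
    simp only [t, map_sub, map_mul, map_pow, map_zero, ← pb_comp] at this
    simpa only [p1, p2, pullback.lift_fst, pullback.lift_snd] using this
  choose q hq using key
  refine ⟨∑ p : α × β, q p.1 p.2, fun l l' W η η' e => ?_⟩
  obtain ⟨d, hd⟩ := Nat.exists_eq_add_of_le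
    (Finset.single_le_sum (f := fun p : α × β => q p.1 p.2) (fun i _ => Nat.zero_le _) (Finset.mem_univ (l, l')))
  rw [hd, pow_add, mul_right_comm, hq l l' W η η' e, zero_mul]

/-- the value on `T` of extension data -/
def IsVal (pr : α → Probe U) {T : Scheme.{u}} (g : T ⟶ X) (t : Γ(T, ⊤))
    (b : ∀ l, Γ((pr l).Y, ⊤)) (k : ℕ) (a : Γ(T, ⊤)) : Prop :=
  ∀ (l : α) (W : Scheme.{u}) (η : W ⟶ (pr l).Y) (e : W ⟶ T), η ≫ (pr l).π = e ≫ g →
    pb η (pr l).τ = pb e t → pb e a = pb e t ^ k * pb η (b l)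

theorem exists_isVal [QuasiSeparatedSpace X] (pr : α → Probe U) {s : Γ(U.toScheme, ⊤)} {m : ℕ}
    {b : ∀ l, Γ((pr l).Y, ⊤)} (hb : ∀ l, Extends (pr l) (b l) m s) :
    ∃ k : ℕ, ∀ {T : Scheme.{u}} (g : T ⟶ X) (t : Γ(T, ⊤)), Adm pr g t →
      ∃ a, IsVal pr g t b k a := by
  obtain ⟨q, hq⟩ := exists_pow_pair (agree_refl s) hb hb
  refine ⟨2 * q + m, fun {T} g t ht => ?_⟩
  -- agreement of any two local values
  have key : ∀ (l l' : α) (W : Scheme.{u}) (η : W ⟶ (pr l).Y) (η' : W ⟶ (pr l').Y) (e : W ⟶ T),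
      η ≫ (pr l).π = e ≫ g → η' ≫ (pr l').π = e ≫ g → pb η (pr l).τ = pb e t → pb η' (pr l').τ = pb e t →
      pb e t ^ (2 * q + m) * pb η (b l) = pb e t ^ (2 * q + m) * pb η' (b l') := by
    intro l l' W η η' e h1 h1' h2 h2'
    have := hq l l' W η η' (h1.trans h1'.symm)
    rw [h2, h2'] at this
    rw [← sub_eq_zero, ← this]
    ring
  choose l V hx κ hκ hκt using ht
  obtain ⟨a, ha⟩ := glue V hx (fun x => pb (V x).ι t ^ (2 * q + m) * pb (κ x) (b (l x))) (by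
    intro x y W j₁ j₂ hj
    rw [map_mul, map_mul, map_pow, map_pow, ← pb_comp, ← pb_comp, ← pb_comp, ← pb_comp, ← hj]
    refine key (l x) (l y) W (j₁ ≫ κ x) (j₂ ≫ κ y) (j₁ ≫ (V x).ι) ?_ ?_ ?_ ?_
    · rw [Category.assoc, hκ, Category.assoc]
    · rw [Category.assoc, hκ, hj, Category.assoc]
    · rw [pb_comp, hκt, pb_comp]
    · rw [pb_comp, hκt, hj, pb_comp])
  refine ⟨a, fun l' W η e h1 h2 => ext_of_cover _ _ fun w => ⟨e ⁻¹ᵁ V (e w), hx (e w), ?_⟩⟩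
  set O := e ⁻¹ᵁ V (e w)
  let j : O.toScheme ⟶ (V (e w)).toScheme := e.resLE (V (e w)) O le_rfl
  have hj : j ≫ (V (e w)).ι = O.ι ≫ e := Scheme.Hom.resLE_comp_ι _ _
  have := congrArg (pb j) (ha (e w))
  rw [map_mul, map_pow, ← pb_comp, ← pb_comp, ← pb_comp, hj] at this
  rw [map_mul, map_pow, ← pb_comp, ← pb_comp, ← pb_comp, this]
  refine key _ _ _ _ _ (O.ι ≫ e) ?_ ?_ ?_ ?_
  · rw [Category.assoc, hκ, ← Category.assoc, hj]
  · rw [Category.assoc, h1, Category.assoc]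
  · rw [pb_comp, hκt, ← pb_comp, hj]
  · rw [pb_comp, h2, pb_comp]

/-- comparison of values -/
theorem exists_pow_isVal [QuasiSeparatedSpace X] {pr : α → Probe U} {pr' : β → Probe U'}
    {s : Γ(U.toScheme, ⊤)} {s' : Γ(U'.toScheme, ⊤)} (hs : Agree s s') {m m' k k' : ℕ}
    {b : ∀ l, Γ((pr l).Y, ⊤)} {b' : ∀ l, Γ((pr' l).Y, ⊤)}
    (hb : ∀ l, Extends (pr l) (b l) m s) (hb' : ∀ l, Extends (pr' l) (b' l) m' s') :
    ∃ q : ℕ, ∀ {T : Scheme.{u}} (g : T ⟶ X) (t t' a a' : Γ(T, ⊤)), Adm pr g t → Adm pr' g t' →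
      IsVal pr g t b k a → IsVal pr' g t' b' k' a' →
      (t * t') ^ q * (a * t' ^ (m' + k') - a' * t ^ (m + k)) = 0 := by
  obtain ⟨q, hq⟩ := exists_pow_pair hs hb hb'
  refine ⟨q, fun {T} g t t' a a' ht ht' ha ha' => ext_of_cover _ _ fun x => ?_⟩
  obtain ⟨l, V, hx, κ, h1, h2⟩ := ht x
  obtain ⟨l', V', hx', κ', h1', h2'⟩ := ht' x
  refine ⟨V ⊓ V', ⟨hx, hx'⟩, ?_⟩
  set O := V ⊓ V'
  set η := T.homOfLE (inf_le_left : O ≤ V) ≫ κ
  set η' := T.homOfLE (inf_le_right : O ≤ V') ≫ κ'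
  have e1 : η ≫ (pr l).π = O.ι ≫ g := by rw [Category.assoc, h1, Scheme.homOfLE_ι_assoc]
  have e1' : η' ≫ (pr' l').π = O.ι ≫ g := by rw [Category.assoc, h1', Scheme.homOfLE_ι_assoc]
  have e2 : pb η (pr l).τ = pb O.ι t := by rw [pb_comp, h2, ← pb_comp, Scheme.homOfLE_ι]
  have e2' : pb η' (pr' l').τ = pb O.ι t' := by rw [pb_comp, h2', ← pb_comp, Scheme.homOfLE_ι]
  have := hq l l' _ η η' (e1.trans e1'.symm)
  rw [e2, e2'] at this
  simp only [map_zero, map_mul, map_sub, map_pow, ha l _ η O.ι e1 e2, ha' l' _ η' O.ι e1' e2']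
  linear_combination (pb O.ι t ^ k * pb O.ι t' ^ k') * this

end Groth.Agent.PiPts7
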