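import Mathlib

/-!
Functorial (pull-back along morphisms) language for global sections.
-/

open CategoryTheory AlgebraicGeometry Limits Opposite TopologicalSpace

universe u

namespace Groth.Agent.PiPts7

/-- pull back of global sections -/
noncomputable def pb {X Y : Scheme.{u}} (f : X ⟶ Y) : Γ(Y, ⊤) →+* Γ(X, ⊤) := f.appTop.hom

@[simp] theorem pb_comp {X Y Z : Scheme.{u}} (f : X ⟶ Y) (g : Y ⟶ Z) (a : Γ(Z, ⊤)) :
    pb (f ≫ g) a = pb f (pb g a) := by
  simp only [pb, Scheme.Hom.comp_appTop]; rfl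

theorem pb_congr {X Y : Scheme.{u}} {f g : X ⟶ Y} (h : f = g) (a : Γ(Y, ⊤)) : pb f a = pb g a := by
  subst h; rfl

theorem ofHom_pb {X Y : Scheme.{u}} (f : X ⟶ Y) : CommRingCat.ofHom (pb f) = f.appTop := rfl

/-- a global section is determined locally -/
theorem ext_of_cover {T : Scheme.{u}} (a a' : Γ(T, ⊤))
    (h : ∀ x : T, ∃ V : T.Opens, x ∈ V ∧ pb V.ι a = pb V.ι a') : a = a' := by
  choose V hxV hV using h
  refine T.sheaf.eq_of_locally_eq' (fun x => (V x).ι ''ᵁ ⊤) ⊤ (fun x => homOfLE le_top) ?_ a a' hV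
  intro x _
  exact Opens.mem_iSup.2 ⟨x, by rw [Scheme.Opens.ι_image_top]; exact hxV x⟩

theorem glue {T : Scheme.{u}} (V : T → T.Opens) (hV : ∀ x, x ∈ V x) (s : ∀ x, Γ((V x).toScheme, ⊤))
    (h : ∀ (x y : T) (W : Scheme.{u}) (j₁ : W ⟶ (V x).toScheme) (j₂ : W ⟶ (V y).toScheme),
      j₁ ≫ (V x).ι = j₂ ≫ (V y).ι → pb j₁ (s x) = pb j₂ (s y)) :
    ∃ a : Γ(T, ⊤), ∀ x, pb (V x).ι a = s x := by
  obtain ⟨a, ha, -⟩ := T.sheaf.existsUnique_gluing' (fun x => (V x).ι ''ᵁ ⊤) ⊤ (fun x => homOfLE le_top)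
    (fun x _ => Opens.mem_iSup.2 ⟨x, by rw [Scheme.Opens.ι_image_top]; exact hV x⟩)
    (fun x => s x) (fun x y => by
      set O : T.Opens := (V x).ι ''ᵁ ⊤ ⊓ (V y).ι ''ᵁ ⊤
      have hx : O ≤ V x := (inf_le_left).trans (le_of_eq (V x).ι_image_top)
      have hy : O ≤ V y := (inf_le_right).trans (le_of_eq (V y).ι_image_top)
      have e := h x y O (T.homOfLE hx) (T.homOfLE hy) (by simp)
      have inj : Function.Injective (T.presheaf.map (eqToHom O.ι_image_top).op) :=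
        (ConcreteCategory.bijective_of_isIso _).1
      apply inj
      simp only [pb, Scheme.homOfLE_app] at e
      refine Eq.trans ?_ (e.trans ?_)
      · exact (ConcreteCategory.congr_hom (T.presheaf.map_comp _ _).symm (s x)).trans rfl
      · exact ((ConcreteCategory.congr_hom (T.presheaf.map_comp _ _).symm (s y)).trans rfl).symm)
  exact ⟨a, ha⟩

theorem mem_basicOpen_iff {T : Scheme.{u}} [IsAffine T] (a : Γ(T, ⊤)) (x : T) :
    x ∈ T.basicOpen a ↔ a ∉ (T.isoSpec.hom x).asIdeal := by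
  rw [← T.toSpecΓ_preimage_basicOpen a]
  rfl

theorem isUnit_pb_of_le {X Y : Scheme.{u}} (f : X ⟶ Y) (a : Γ(Y, ⊤))
    (h : ∀ x : X, f x ∈ Y.basicOpen a) : IsUnit (pb f a) := by
  apply RingedSpace.isUnit_of_isUnit_germ
  intro x hx
  have : x ∈ X.basicOpen (pb f a) := by
    rw [show X.basicOpen (pb f a) = f ⁻¹ᵁ Y.basicOpen a from (Scheme.preimage_basicOpen_top f a).symm]
    exact h x
  rwa [Scheme.mem_basicOpen _ _ x hx] at this

theorem mem_basicOpen_of_isUnit {X Y : Scheme.{u}} (f : X ⟶ Y) (a : Γ(Y, ⊤)) (h : IsUnit (pb f a))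
    (x : X) : f x ∈ Y.basicOpen a := by
  have : x ∈ X.basicOpen (pb f a) := by
    rw [X.basicOpen_of_isUnit h]; trivial
  rwa [show X.basicOpen (pb f a) = f ⁻¹ᵁ Y.basicOpen a from (Scheme.preimage_basicOpen_top f a).symm] at this

theorem isUnit_pb_basicOpen {X : Scheme.{u}} (a : Γ(X, ⊤)) : IsUnit (pb (X.basicOpen a).ι a) :=
  isUnit_pb_of_le _ a fun x => x.2

/-- a section vanishing on `D(t)` is killed by a power of `t` -/
theorem exists_pow_mul_eq_zero {Z : Scheme.{u}} [CompactSpace Z] (t d : Γ(Z, ⊤))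
    (h : pb (Z.basicOpen t).ι d = 0) : ∃ q : ℕ, t ^ q * d = 0 := by
  apply exists_pow_mul_eq_zero_of_res_basicOpen_eq_zero_of_isCompact Z isCompact_univ d t
  have inj : Function.Injective (Z.presheaf.map (eqToHom (Z.basicOpen t).ι_image_top).op) :=
    (ConcreteCategory.bijective_of_isIso _).1
  apply inj
  rw [map_zero]
  refine Eq.trans ?_ h
  exact (ConcreteCategory.congr_hom (Z.presheaf.map_comp _ _).symm d).trans rfl

/-- extension of a section on `D(t)` of an affine scheme -/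
theorem exists_eq_pow_mul {Y : Scheme.{u}} [IsAffine Y] (t : Γ(Y, ⊤))
    (x : Γ((Y.basicOpen t).toScheme, ⊤)) :
    ∃ (n : ℕ) (y : Γ(Y, ⊤)), pb (Y.basicOpen t).ι y = pb (Y.basicOpen t).ι t ^ n * x := by
  obtain ⟨n, y, hy⟩ := exists_eq_pow_mul_of_isAffineOpen Y ⊤ (isAffineOpen_top Y) t
    (Y.presheaf.map (eqToHom (Y.basicOpen t).ι_image_top.symm).op x)
  refine ⟨n, y, ?_⟩
  have inj : Function.Injective (Y.presheaf.map (eqToHom (Y.basicOpen t).ι_image_top.symm).op) :=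
    (ConcreteCategory.bijective_of_isIso _).1
  apply inj
  have key : ∀ z : Γ(Y, ⊤), Y.presheaf.map (eqToHom (Y.basicOpen t).ι_image_top.symm).op
      (pb (Y.basicOpen t).ι z) = z |_ Y.basicOpen t := fun z =>
    (ConcreteCategory.congr_hom (Y.presheaf.map_comp _ _).symm z).trans rfl
  let ψ : Γ((Y.basicOpen t).toScheme, ⊤) →+* Γ(Y, Y.basicOpen t) :=
    (Y.presheaf.map (eqToHom (Y.basicOpen t).ι_image_top.symm).op).hom
  show ψ (pb _ y) = ψ (pb _ t ^ n * x)
  rw [map_mul, map_pow]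
  show ψ (pb _ y) = ψ (pb _ t) ^ n * ψ x
  rw [show ψ (pb _ y) = y |_ Y.basicOpen t from key y, show ψ (pb _ t) = t |_ Y.basicOpen t from key t]
  exact hy

end Groth.Agent.PiPts7
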