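import Groth.Agent.PiPts7.Probe

/-!
The ring map `Γ(U) → Q` attached to an admissible element of a product ring.
-/

open CategoryTheory AlgebraicGeometry Limits

universe u

namespace Groth.Agent.PiPts7

set_option linter.unusedSectionVars false

variable {X : Scheme.{u}} [QuasiSeparatedSpace X] {U U' : X.Opens} {α β : Type u} [Finite α] [Finite β]
  {I : Type u} {T : I → Scheme.{u}} {g : ∀ i, T i ⟶ X}

/-- `x` is the value of `s` in `Q` -/
def IsValue (pr : α → Probe U) (g : ∀ i, T i ⟶ X) (f : ∀ i, Γ(T i, ⊤)) {Q : Type*} [CommRing Q]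
    (σ : (∀ i, Γ(T i, ⊤)) →+* Q) (s : Γ(U.toScheme, ⊤)) (x : Q) : Prop :=
  ∃ (m k : ℕ) (b : ∀ l, Γ((pr l).Y, ⊤)) (a : ∀ i, Γ(T i, ⊤)),
    (∀ l, Extends (pr l) (b l) m s) ∧ (∀ i, IsVal pr (g i) (f i) b k (a i)) ∧ σ a = x * σ f ^ (m + k)

variable {pr : α → Probe U} {pr' : β → Probe U'} {f f' : ∀ i, Γ(T i, ⊤)} {Q : Type*} [CommRing Q]
  {σ : (∀ i, Γ(T i, ⊤)) →+* Q}

theorem IsValue.map {Q' : Type*} [CommRing Q'] (φ : Q →+* Q') {s : Γ(U.toScheme, ⊤)} {x : Q}
    (h : IsValue pr g f σ s x) : IsValue pr g f (φ.comp σ) s (φ x) := by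
  obtain ⟨m, k, b, a, h1, h2, h3⟩ := h
  exact ⟨m, k, b, a, h1, h2, by simp [RingHom.comp_apply, h3]⟩

theorem IsValue.agree (hf : ∀ i, Adm pr (g i) (f i)) (hf' : ∀ i, Adm pr' (g i) (f' i))
    (hu : IsUnit (σ f)) (hu' : IsUnit (σ f')) {s : Γ(U.toScheme, ⊤)} {s' : Γ(U'.toScheme, ⊤)}
    (hs : Agree s s') {x x' : Q} (h : IsValue pr g f σ s x) (h' : IsValue pr' g f' σ s' x') : x = x' := by
  obtain ⟨m, k, b, a, h1, h2, h3⟩ := h
  obtain ⟨m', k', b', a', h1', h2', h3'⟩ := h'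
  obtain ⟨q, hq⟩ := exists_pow_isVal (k := k) (k' := k') hs h1 h1'
  have h0 : (f * f') ^ q * (a * f' ^ (m' + k') - a' * f ^ (m + k)) = 0 := by
    funext i
    exact hq (g i) (f i) (f' i) (a i) (a' i) (hf i) (hf' i) (h2 i) (h2' i)
  have := congrArg σ h0
  simp only [map_mul, map_pow, map_sub, map_zero, h3, h3'] at this
  rw [((hu.mul hu').pow q).mul_right_eq_zero, sub_eq_zero] at this
  refine (hu.pow (m + k)).mul_right_cancel ((hu'.pow (m' + k')).mul_right_cancel (this.trans ?_))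
  ring

theorem exists_isValue (hf : ∀ i, Adm pr (g i) (f i)) (hu : IsUnit (σ f)) (s : Γ(U.toScheme, ⊤)) :
    ∃ x, IsValue pr g f σ s x := by
  obtain ⟨m, b, hb⟩ := exists_extends_family pr s
  obtain ⟨k, hk⟩ := exists_isVal pr hb
  choose a ha using fun i => hk (g i) (f i) (hf i)
  obtain ⟨v, hv⟩ := (hu.pow (m + k)).exists_left_inv
  refine ⟨σ a * v, m, k, b, a, hb, ha, ?_⟩
  rw [mul_assoc, hv, mul_one]

theorem IsValue.add {s s' : Γ(U.toScheme, ⊤)} {x x' : Q}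
    (h : IsValue pr g f σ s x) (h' : IsValue pr g f σ s' x') : IsValue pr g f σ (s + s') (x + x') := by
  obtain ⟨m, k, b, a, h1, h2, h3⟩ := h
  obtain ⟨m', k', b', a', h1', h2', h3'⟩ := h'
  refine ⟨m + m', k + k', fun l => b l * (pr l).τ ^ m' + b' l * (pr l).τ ^ m,
    a * f ^ (m' + k') + a' * f ^ (m + k), fun l W η ρ e hu => ?_, fun i l W η e e1 e2 => ?_, ?_⟩
  · simp only [map_add, map_mul, map_pow, h1 l W η ρ e hu, h1' l W η ρ e hu, pow_add]
    ring
  · simp only [Pi.add_apply, Pi.mul_apply, Pi.pow_apply, map_add, map_mul, map_pow,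
      h2 i l W η e e1 e2, h2' i l W η e e1 e2, e2, pow_add]
    ring
  · simp only [map_add, map_mul, map_pow, h3, h3', pow_add]
    ring

theorem IsValue.mul {s s' : Γ(U.toScheme, ⊤)} {x x' : Q}
    (h : IsValue pr g f σ s x) (h' : IsValue pr g f σ s' x') : IsValue pr g f σ (s * s') (x * x') := by
  obtain ⟨m, k, b, a, h1, h2, h3⟩ := h
  obtain ⟨m', k', b', a', h1', h2', h3'⟩ := h'
  refine ⟨m + m', k + k', fun l => b l * b' l, a * a', fun l W η ρ e hu => ?_,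
    fun i l W η e e1 e2 => ?_, ?_⟩
  · simp only [map_mul, h1 l W η ρ e hu, h1' l W η ρ e hu, pow_add]
    ring
  · simp only [Pi.mul_apply, map_mul, h2 i l W η e e1 e2, h2' i l W η e e1 e2, pow_add]
    ring
  · simp only [map_mul, h3, h3', pow_add]
    ring

theorem isValue_one : IsValue pr g f σ 1 1 :=
  ⟨0, 0, fun _ => 1, 1, fun l W η ρ _ _ => by simp, fun i l W η e _ _ => by simp, by simp⟩

theorem isValue_zero : IsValue pr g f σ 0 0 :=
  ⟨0, 0, fun _ => 0, 0, fun l W η ρ _ _ => by simp, fun i l W η e _ _ => by simp, by simp⟩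

/-- the ring map `Γ(U) → Q` -/
noncomputable def valueHom (hf : ∀ i, Adm pr (g i) (f i)) (hu : IsUnit (σ f)) :
    Γ(U.toScheme, ⊤) →+* Q where
  toFun s := (exists_isValue hf hu s).choose
  map_one' := IsValue.agree hf hf hu hu (agree_refl 1) (exists_isValue hf hu 1).choose_spec isValue_one
  map_zero' := IsValue.agree hf hf hu hu (agree_refl 0) (exists_isValue hf hu 0).choose_spec isValue_zero
  map_add' s s' := IsValue.agree hf hf hu hu (agree_refl _) (exists_isValue hf hu _).choose_spec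
    ((exists_isValue hf hu s).choose_spec.add (exists_isValue hf hu s').choose_spec)
  map_mul' s s' := IsValue.agree hf hf hu hu (agree_refl _) (exists_isValue hf hu _).choose_spec
    ((exists_isValue hf hu s).choose_spec.mul (exists_isValue hf hu s').choose_spec)

theorem valueHom_spec (hf : ∀ i, Adm pr (g i) (f i)) (hu : IsUnit (σ f)) (s : Γ(U.toScheme, ⊤)) :
    IsValue pr g f σ s (valueHom hf hu s) :=
  (exists_isValue hf hu s).choose_spec

theorem valueHom_comp {Q' : Type*} [CommRing Q'] (φ : Q →+* Q') (hf : ∀ i, Adm pr (g i) (f i))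
    (hu : IsUnit (σ f)) (hu' : IsUnit ((φ.comp σ) f)) :
    φ.comp (valueHom hf hu) = valueHom hf hu' :=
  RingHom.ext fun s => IsValue.agree hf hf hu' hu' (agree_refl s)
    ((valueHom_spec hf hu s).map φ) (valueHom_spec hf hu' s)

theorem valueHom_restrict (h : U' ≤ U) (hf : ∀ i, Adm pr (g i) (f i)) (hu : IsUnit (σ f))
    (hf' : ∀ i, Adm pr' (g i) (f' i)) (hu' : IsUnit (σ f')) (s : Γ(U.toScheme, ⊤)) :
    valueHom hf hu s = valueHom hf' hu' (pb (X.homOfLE h) s) := by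
  refine IsValue.agree hf hf' hu hu' ?_ (valueHom_spec hf hu s) (valueHom_spec hf' hu' _)
  intro W ρ ρ' e
  rw [← pb_comp]
  refine pb_congr ?_ s
  rw [← cancel_mono U.ι, e, Category.assoc, Scheme.homOfLE_ι]

/-- the value at a point with values in a scheme over `T i` -/
theorem valueHom_apply_point (hf : ∀ i, Adm pr (g i) (f i)) (i : I) {W : Scheme.{u}} (e : W ⟶ T i)
    (ρ : W ⟶ U.toScheme) (he : ρ ≫ U.ι = e ≫ g i)
    {σ : (∀ i, Γ(T i, ⊤)) →+* Γ(W, ⊤)} (hσ : ∀ a, σ a = pb e (a i)) (hu : IsUnit (σ f)) :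
    valueHom hf hu = pb ρ := by
  refine RingHom.ext fun s => ?_
  obtain ⟨m, k, b, a, h1, h2, h3⟩ := valueHom_spec hf hu s
  refine (hu.pow (m + k)).mul_right_cancel (h3.symm.trans ?_)
  rw [hσ] at hu ⊢
  rw [hσ]
  refine ext_of_cover _ _ fun w => ?_
  obtain ⟨l, V, hx, κ, hκ, hκt⟩ := hf i (e w)
  refine ⟨e ⁻¹ᵁ V, hx, ?_⟩
  set O := e ⁻¹ᵁ V
  set j : O.toScheme ⟶ V.toScheme := e.resLE V O le_rfl
  have hj : j ≫ V.ι = O.ι ≫ e := Scheme.Hom.resLE_comp_ι _ _
  have e1 : (j ≫ κ) ≫ (pr l).π = (O.ι ≫ e) ≫ g i := by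
    rw [Category.assoc, hκ, ← Category.assoc, hj]
  have e2 : pb (j ≫ κ) (pr l).τ = pb (O.ι ≫ e) (f i) := by rw [pb_comp, hκt, ← pb_comp, hj]
  have e3 := h1 l _ (j ≫ κ) (O.ι ≫ ρ) (by rw [e1, Category.assoc, Category.assoc, he])
    (by rw [e2, pb_comp]; exact hu.map _)
  have e4 := h2 i l _ (j ≫ κ) (O.ι ≫ e) e1 e2
  rw [← pb_comp, e4, e3, e2, map_mul, map_pow, ← pb_comp, ← pb_comp]
  ring

end Groth.Agent.PiPts7
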